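import Groth.Agent.PEvBij8.Veronese
import Groth.Prelude.Def_GrMod2

/-!
# `M~` on `Proj S` is the pullback of `M^(d)~` on `Proj S^(d)`

The module version of `PEvBij8.Veronese`.
-/

set_option autoImplicit false
set_option backward.isDefEq.respectTransparency.types false

namespace Groth.Agent.TildeVer29

open CategoryTheory AlgebraicGeometry TopologicalSpace Opposite HomogeneousLocalization
open Groth.Agent.ProjLib Groth.Agent.PEvBij8

universe u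

noncomputable section

variable {R A : Type u} [CommRing R] [CommRing A] [Algebra R A] {𝒜 : ℕ → Submodule R A}
  [GradedAlgebra 𝒜] {B : Type u} [CommRing B] [Algebra R B] {ℬ : ℕ → Submodule R B}
  [GradedAlgebra ℬ] {d : ℕ} (hd : 0 < d) (φ : B →ₐ[R] A)
  (hdeg : ∀ n : ℕ, Submodule.map φ.toLinearMap (ℬ n) = 𝒜 (n * d))
  {M : Type u} [AddCommGroup M] [Module R M] [Module A M] [IsScalarTower R A M] {ℳ : ℕ → Submodule R M}
  [DirectSum.Decomposition ℳ] [SetLike.GradedSMul 𝒜 ℳ]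
  {N : Type u} [AddCommGroup N] [Module R N] [Module B N] [IsScalarTower R B N] {𝒩 : ℕ → Submodule R N}
  [DirectSum.Decomposition 𝒩] [SetLike.GradedSMul ℬ 𝒩]
  (v : N →ₛₗ[φ.toRingHom] M)
  (hvdeg : ∀ n : ℕ, (𝒩 n : Set N).image v = (ℳ (n * d) : Set M))

lemma not_mem_of (y : Proj 𝒜) {s : B} (hs : s ∉ ((veroneseHom hd φ hdeg).base y).asHomogeneousIdeal) :
    φ s ∉ y.asHomogeneousIdeal := fun h =>
  hs ((SetLike.ext_iff.mp (veroneseHom_apply hd φ hdeg y) s).mpr h)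

lemma not_mem_of' (y : Proj 𝒜) {s : B} (hs : φ s ∉ y.asHomogeneousIdeal) :
    s ∉ ((veroneseHom hd φ hdeg).base y).asHomogeneousIdeal := fun h =>
  hs ((SetLike.ext_iff.mp (veroneseHom_apply hd φ hdeg y) s).mp h)

/-- The canonical map of localised modules. -/
def mLoc (y : Proj 𝒜) :
    GrTilde.LocMod ℬ (M := N) ((veroneseHom hd φ hdeg).base y) →+ GrTilde.LocMod 𝒜 (M := M) y where
  toFun q := LocalizedModule.liftOn q
    (fun p => LocalizedModule.mk (v p.1) ⟨φ p.2.1, not_mem_of hd φ hdeg y p.2.2⟩)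
    (by
      rintro ⟨m, s⟩ ⟨m', t⟩ ⟨⟨u, hu⟩, h⟩
      refine LocalizedModule.mk_eq.mpr ⟨⟨φ u, not_mem_of hd φ hdeg y hu⟩, ?_⟩
      have := congrArg v (show u • (t : B) • m = u • (s : B) • m' from h)
      rw [v.map_smulₛₗ, v.map_smulₛₗ, v.map_smulₛₗ, v.map_smulₛₗ] at this
      exact this)
  map_zero' := by
    rw [show (0 : GrTilde.LocMod ℬ (M := N) ((veroneseHom hd φ hdeg).base y)) = LocalizedModule.mk 0 1 from
      (LocalizedModule.zero_mk 1).symm, LocalizedModule.liftOn_mk, map_zero, LocalizedModule.zero_mk]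
  map_add' q q' := by
    induction q using LocalizedModule.induction_on with
    | h m s =>
      induction q' using LocalizedModule.induction_on with
      | h m' t =>
        rw [LocalizedModule.mk_add_mk, LocalizedModule.liftOn_mk, LocalizedModule.liftOn_mk,
          LocalizedModule.liftOn_mk, LocalizedModule.mk_add_mk]
        refine LocalizedModule.mk_eq.mpr ⟨1, ?_⟩
        simp [Submonoid.smul_def, map_add, map_mul]
        erw [v.map_smulₛₗ, v.map_smulₛₗ]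
        rfl

lemma mLoc_mk (y : Proj 𝒜) (m : N) (s : B)
    (hs : s ∉ ((veroneseHom hd φ hdeg).base y).asHomogeneousIdeal) :
    mLoc hd φ hdeg v y (LocalizedModule.mk m ⟨s, hs⟩) =
      LocalizedModule.mk (v m) ⟨φ s, not_mem_of hd φ hdeg y hs⟩ := rfl

lemma mLoc_smul (y : Proj 𝒜) (c : Twist.Loc ℬ ((veroneseHom hd φ hdeg).base y))
    (q : GrTilde.LocMod ℬ (M := N) ((veroneseHom hd φ hdeg).base y)) :
    mLoc hd φ hdeg v y (c • q) = vLoc hd φ hdeg y c • mLoc hd φ hdeg v y q := by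
  induction q using LocalizedModule.induction_on with
  | h m s =>
    obtain ⟨⟨a, t, ht⟩, rfl⟩ : ∃ p : B × ((veroneseHom hd φ hdeg).base y).asHomogeneousIdeal.toIdeal.primeCompl,
        Localization.mk p.1 p.2 = c := by
      induction c using Localization.induction_on with
      | H p => exact ⟨p, rfl⟩
    obtain ⟨s, hs⟩ := s
    rw [LocalizedModule.mk_smul_mk]
    refine (mLoc_mk hd φ hdeg v y _ _ _).trans (Eq.trans ?_ (congrArg₂ (· • ·) (vLoc_mk hd φ hdeg y a t ht).symm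
      (mLoc_mk hd φ hdeg v y m s hs).symm))
    rw [LocalizedModule.mk_smul_mk]
    congr 1
    · exact v.map_smulₛₗ a m
    · exact Subtype.ext (map_mul φ t s)

lemma tilde_frac {y : ProjectiveSpectrum 𝒜} {q : GrTilde.LocMod 𝒜 (M := M) y}
    (hq : q ∈ GrTilde.tildeAt 𝒜 ℳ 0 y) :
    ∃ (i : ℕ) (m : ℳ i) (s : 𝒜 i) (hs : (s : A) ∉ y.asHomogeneousIdeal),
      q = LocalizedModule.mk (m : M) ⟨(s : A), hs⟩ := by
  induction hq using Submodule.span_induction with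
  | mem q h =>
    obtain ⟨i, j, m, s, hs, hij, rfl⟩ := h
    obtain rfl : i = j := by omega
    exact ⟨i, m, s, hs, rfl⟩
  | zero =>
    exact ⟨0, 0, ⟨1, SetLike.GradedOne.one_mem⟩,
      fun h => y.isPrime.ne_top ((Ideal.eq_top_iff_one _).mpr h), (LocalizedModule.zero_mk _).symm⟩
  | add q q' _ _ h h' =>
    obtain ⟨i, m, s, hs, rfl⟩ := h
    obtain ⟨j, m', t, ht, rfl⟩ := h'
    refine ⟨i + j, ⟨(t : A) • (m : M) + (s : A) • (m' : M), add_mem
        (Nat.add_comm j i ▸ SetLike.GradedSMul.smul_mem t.2 m.2) (SetLike.GradedSMul.smul_mem s.2 m'.2)⟩,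
      ⟨s * t, SetLike.mul_mem_graded s.2 t.2⟩, fun h => (y.isPrime.mem_or_mem h).elim hs ht, ?_⟩
    rw [LocalizedModule.mk_add_mk]
    rfl
  | smul c q _ h =>
    obtain ⟨i, m, s, hs, rfl⟩ := h
    obtain ⟨⟨k, ⟨r, hr⟩, ⟨t, ht⟩, htx⟩, rfl⟩ := HomogeneousLocalization.mk_surjective c
    refine ⟨k + i, ⟨r • (m : M), SetLike.GradedSMul.smul_mem hr m.2⟩,
      ⟨t * s, SetLike.mul_mem_graded ht s.2⟩, fun h => (y.isPrime.mem_or_mem h).elim htx hs, ?_⟩
    rw [GrTilde.a0_smul_def, HomogeneousLocalization.val_mk, LocalizedModule.mk_smul_mk]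
    rfl

include hvdeg in
lemma v_mem {i : ℕ} {m : N} (hm : m ∈ 𝒩 i) : v m ∈ ℳ (i * d) :=
  (hvdeg i).le ⟨m, hm, rfl⟩

include hvdeg in
lemma mLoc_mem (y : Proj 𝒜) {q : GrTilde.LocMod ℬ (M := N) ((veroneseHom hd φ hdeg).base y)}
    (hq : q ∈ GrTilde.tildeAt ℬ 𝒩 0 ((veroneseHom hd φ hdeg).base y)) :
    mLoc hd φ hdeg v y q ∈ GrTilde.tildeAt 𝒜 ℳ 0 y := by
  obtain ⟨i, m, s, hs, rfl⟩ := tilde_frac hq
  rw [mLoc_mk]
  exact Submodule.subset_span ⟨i * d, i * d, ⟨v m, v_mem φ v hvdeg m.2⟩,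
    ⟨φ s, veronese_mem 𝒜 ℬ φ hdeg s.2⟩, not_mem_of hd φ hdeg y hs, by simp, rfl⟩

/-- The map on dependent functions. -/
def mFun (U : (Proj ℬ).Opens) (s : ∀ x : U, GrTilde.tildeAt ℬ 𝒩 0 x.1)
    (y : (veroneseHom hd φ hdeg ⁻¹ᵁ U : (Proj 𝒜).Opens)) : GrTilde.tildeAt 𝒜 ℳ 0 y.1 :=
  ⟨mLoc hd φ hdeg v y.1 (s ⟨(veroneseHom hd φ hdeg).base y.1, y.2⟩).1,
    mLoc_mem hd φ hdeg v hvdeg y.1 (s ⟨(veroneseHom hd φ hdeg).base y.1, y.2⟩).2⟩

lemma isLocFrac_mFun (U : (Proj ℬ).Opens) (s : GrTilde.sect ℬ 𝒩 0 (op U)) :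
    (GrTilde.isLocFrac 𝒜 ℳ 0).pred (mFun hd φ hdeg v hvdeg U s.1) := by
  rintro ⟨y, hy⟩
  rcases s.2 ⟨(veroneseHom hd φ hdeg).base y, hy⟩ with ⟨W, m, iWU, i, j, a, b, hb, hij, hfrac⟩
  refine ⟨veroneseHom hd φ hdeg ⁻¹ᵁ W, m, homOfLE fun z hz => iWU.le hz, i * d, j * d,
    ⟨v a, v_mem φ v hvdeg a.2⟩, ⟨φ b, veronese_mem 𝒜 ℬ φ hdeg b.2⟩,
    fun z => not_mem_of hd φ hdeg z.1 (hb ⟨_, z.2⟩), ?_, fun z => ?_⟩
  · rcases hij with h | h
    · left
      have : i = j := by omega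
      subst this
      simp
    · exact Or.inr (show v (a : N) = 0 by rw [h, map_zero])
  · exact (congrArg (mLoc hd φ hdeg v z.1) (hfrac ⟨_, z.2⟩)).trans (mLoc_mk hd φ hdeg v _ _ _ _)

/-- The map on sections. -/
def mApp (U : (Proj ℬ).Opens) :
    GrTilde.sect ℬ 𝒩 0 (op U) →+ GrTilde.sect 𝒜 ℳ 0 (op (veroneseHom hd φ hdeg ⁻¹ᵁ U)) where
  toFun s := ⟨mFun hd φ hdeg v hvdeg U s.1, isLocFrac_mFun hd φ hdeg v hvdeg U s⟩
  map_zero' := Subtype.ext (funext fun y => Subtype.ext (map_zero (mLoc hd φ hdeg v y.1)))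
  map_add' s t := Subtype.ext (funext fun y => Subtype.ext (map_add (mLoc hd φ hdeg v y.1) _ _))

lemma mApp_smul (U : (Proj ℬ).Opens) (r : Twist.O (𝒜 := ℬ) (op U))
    (s : GrTilde.sect ℬ 𝒩 0 (op U)) :
    mApp hd φ hdeg v hvdeg U (r • s) =
      (id ((veroneseHom hd φ hdeg).app U r) : Twist.O (𝒜 := 𝒜) (op (veroneseHom hd φ hdeg ⁻¹ᵁ U))) •
        mApp hd φ hdeg v hvdeg U s := by
  refine Subtype.ext (funext fun y => Subtype.ext ?_)
  refine Eq.trans ?_ (GrTilde.coe_smul_val _ y.1 _ _).symm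
  refine Eq.trans ?_ (congrArg (· • _) (app_val hd φ hdeg U r y)).symm
  exact (congrArg (mLoc hd φ hdeg v y.1) (GrTilde.coe_smul_val 0 _ _ _)).trans (mLoc_smul hd φ hdeg v y.1 _ _)

/-- `M'~ ⟶ i_* M~`. -/
def mMap : GrTilde.tilde ℬ 𝒩 0 ⟶
    (Scheme.Modules.pushforward (veroneseHom hd φ hdeg)).obj (GrTilde.tilde 𝒜 ℳ 0) :=
  ⟨PresheafOfModules.homMk
    { app := fun U => AddCommGrpCat.ofHom (mApp hd φ hdeg v hvdeg U.unop)
      naturality := fun _ _ _ => rfl }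
    fun U r s => mApp_smul hd φ hdeg v hvdeg U.unop r s⟩

include hvdeg in
lemma mLoc_eq_zero (hv : Function.Injective v) (y : Proj 𝒜)
    {q : GrTilde.LocMod ℬ (M := N) ((veroneseHom hd φ hdeg).base y)}
    (hq : q ∈ GrTilde.tildeAt ℬ 𝒩 0 ((veroneseHom hd φ hdeg).base y))
    (h0 : mLoc hd φ hdeg v y q = 0) : q = 0 := by
  classical
  obtain ⟨i, ⟨a, ha⟩, ⟨s, hs'⟩, hs, rfl⟩ := tilde_frac hq
  rw [mLoc_mk, ← LocalizedModule.zero_mk 1, LocalizedModule.mk_eq] at h0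
  obtain ⟨⟨t, ht⟩, hta⟩ := h0
  replace hta : t • v a = 0 := by simpa [Submonoid.smul_def] using hta
  have hmem : v a ∈ ℳ (i * d) := v_mem φ v hvdeg ha
  obtain ⟨k, hk⟩ : ∃ k, (DirectSum.decompose 𝒜 t k : A) ∉ y.asHomogeneousIdeal := by
    by_contra! hcon
    exact ht (by
      rw [← DirectSum.sum_support_decompose 𝒜 t]
      exact Ideal.sum_mem _ fun k _ => hcon k)
  have htk : (DirectSum.decompose 𝒜 t k : A) • v a = 0 := by
    let g : ℕ → M := fun l => (DirectSum.decompose 𝒜 t l : A) • v a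
    have hg : ∀ l, g l ∈ ℳ (l + i * d) := fun l =>
      SetLike.GradedSMul.smul_mem (DirectSum.decompose 𝒜 t l).2 hmem
    have hsum : ∑ l ∈ (DirectSum.decompose 𝒜 t).support, g l = 0 := by
      rw [← Finset.sum_smul, DirectSum.sum_support_decompose 𝒜 t]
      exact hta
    by_cases hkS : k ∈ (DirectSum.decompose 𝒜 t).support
    · let π : M →+ M :=
        { toFun := fun x => ((DirectSum.decompose ℳ x) (k + i * d) : M)
          map_zero' := by simp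
          map_add' := fun x y => by simp }
      have h2 : ∑ l ∈ (DirectSum.decompose 𝒜 t).support, π (g l) = 0 := by rw [← map_sum, hsum, map_zero]
      have h3 : π (g k) = 0 := by
        rw [← h2]
        exact (Finset.sum_eq_single (f := fun l => π (g l)) k
          (fun l _ hl => DirectSum.decompose_of_mem_ne ℳ (hg l) (fun e => hl (Nat.add_right_cancel e)))
          (fun h => absurd hkS h)).symm
      exact (DirectSum.decompose_of_mem_same ℳ (hg k)).symm.trans h3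
    · rw [DFinsupp.notMem_support_iff.mp hkS]
      exact zero_smul A (v a)
  obtain ⟨b, hb, hbt⟩ := veronese_surj 𝒜 ℬ φ hdeg (n := k)
    (a := (DirectSum.decompose 𝒜 t k : A) ^ d)
    (by simpa [mul_comm] using SetLike.pow_mem_graded d (DirectSum.decompose 𝒜 t k).2)
  rw [← LocalizedModule.zero_mk 1, LocalizedModule.mk_eq]
  refine ⟨⟨b, not_mem_of' hd φ hdeg y fun hc => hk (y.isPrime.mem_of_pow_mem d (hbt ▸ hc))⟩, hv ?_⟩
  obtain ⟨d', rfl⟩ : ∃ d', d = d' + 1 := ⟨d - 1, by omega⟩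
  simp only [Submonoid.smul_def, OneMemClass.coe_one, one_smul, smul_zero, map_zero]
  rw [v.map_smulₛₗ, show φ.toRingHom b = φ b from rfl, hbt, pow_succ, mul_smul, htk, smul_zero]

include hvdeg in
lemma mLoc_injOn (hv : Function.Injective v) (y : Proj 𝒜)
    {q q' : GrTilde.LocMod ℬ (M := N) ((veroneseHom hd φ hdeg).base y)}
    (hq : q ∈ GrTilde.tildeAt ℬ 𝒩 0 ((veroneseHom hd φ hdeg).base y))
    (hq' : q' ∈ GrTilde.tildeAt ℬ 𝒩 0 ((veroneseHom hd φ hdeg).base y))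
    (h : mLoc hd φ hdeg v y q = mLoc hd φ hdeg v y q') : q = q' :=
  sub_eq_zero.mp (mLoc_eq_zero hd φ hdeg v hvdeg hv y (sub_mem hq hq') (by rw [map_sub, h, sub_self]))

include hd hdeg hvdeg in
lemma exists_frac_lift (y : Proj 𝒜) {i j : ℕ} (b : ℳ i) (t : 𝒜 j)
    (ht : (t : A) ∉ y.asHomogeneousIdeal) (hn : (i : ℤ) = j + 0 ∨ (b : M) = 0) :
    ∃ (i' : ℕ) (a : 𝒩 i') (s : ℬ i'), φ (s : B) ∉ y.asHomogeneousIdeal ∧
      φ (s : B) • (b : M) = (t : A) • v (a : N) := by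
  obtain ⟨s, hs, hst⟩ := veronese_surj 𝒜 ℬ φ hdeg (n := j) (a := (t : A) ^ d)
    (by simpa [mul_comm] using SetLike.pow_mem_graded d t.2)
  have hsy : φ s ∉ y.asHomogeneousIdeal := by
    rw [hst]
    exact fun h => ht (y.isPrime.mem_of_pow_mem _ h)
  rcases eq_or_ne (b : M) 0 with hb | hb
  · exact ⟨j, 0, ⟨s, hs⟩, hsy, by simp [hb]⟩
  obtain rfl : i = j := by have := hn.resolve_right hb; omega
  obtain ⟨d', rfl⟩ : ∃ d', d = d' + 1 := ⟨d - 1, by omega⟩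
  have hmem : (t : A) ^ d' • (b : M) ∈ ℳ (i * (d' + 1)) := by
    have := SetLike.GradedSMul.smul_mem (B := ℳ) (SetLike.pow_mem_graded d' t.2) b.2
    have e : d' • i +ᵥ i = i * (d' + 1) := by simp [vadd_eq_add]; ring
    exact e ▸ this
  obtain ⟨a, ha, hat⟩ := (hvdeg i).ge hmem
  refine ⟨i, ⟨a, ha⟩, ⟨s, hs⟩, hsy, ?_⟩
  show φ s • (b : M) = (t : A) • v a
  rw [hst, hat, smul_smul, ← pow_succ']

lemma mMap_app_bijective (hφ : Function.Injective φ) (hv : Function.Injective v) (U : (Proj ℬ).Opens) :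
    Function.Bijective ((mMap hd φ hdeg v hvdeg).app U) := by
  have hiso := veroneseHom_isIso hd φ hdeg hφ
  have hinj : Function.Injective (veroneseHom hd φ hdeg).base :=
    (veroneseHom hd φ hdeg).isOpenEmbedding.injective
  have hrange : ∀ x : U, ∃ y : Proj 𝒜, (veroneseHom hd φ hdeg).base y = x.1 := fun x =>
    (veroneseHom hd φ hdeg).surjective x.1
  constructor
  · intro s s' h
    refine Subtype.ext (funext fun x => Subtype.ext ?_)
    obtain ⟨y, hy⟩ := hrange x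
    obtain ⟨x, hx⟩ := x
    obtain rfl : (veroneseHom hd φ hdeg).base y = x := hy
    have e := congrArg (fun r : GrTilde.sect 𝒜 ℳ 0 (op (veroneseHom hd φ hdeg ⁻¹ᵁ U)) =>
      ((r.1 ⟨y, hx⟩ : _) : GrTilde.LocMod 𝒜 (M := M) y)) h
    exact mLoc_injOn hd φ hdeg v hvdeg hv y (s.1 ⟨_, hx⟩).2 (s'.1 ⟨_, hx⟩).2 e
  · intro t
    have hpt : ∀ x : U, ∃ q : GrTilde.tildeAt ℬ 𝒩 0 x.1, ∀ (y : Proj 𝒜)
        (hy : (veroneseHom hd φ hdeg).base y = x.1),
        mLoc hd φ hdeg v y (hy.symm ▸ q : GrTilde.tildeAt ℬ 𝒩 0 ((veroneseHom hd φ hdeg).base y)).1 =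
          ((t : GrTilde.sect 𝒜 ℳ 0 (op (veroneseHom hd φ hdeg ⁻¹ᵁ U))).1
            ⟨y, (congrArg (· ∈ U) hy).mpr x.2⟩).1 := by
      intro x
      obtain ⟨y, hy⟩ := hrange x
      obtain ⟨x, hx⟩ := x
      obtain rfl : (veroneseHom hd φ hdeg).base y = x := hy
      obtain ⟨W, hW, iW, i, j, b, s, hs, hn, hfrac⟩ :=
        (t : GrTilde.sect 𝒜 ℳ 0 (op (veroneseHom hd φ hdeg ⁻¹ᵁ U))).2 ⟨y, hx⟩
      obtain ⟨i', a, s', hs', heq⟩ := exists_frac_lift hd φ hdeg v hvdeg y b s (hs ⟨y, hW⟩) hn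
      have hsx := not_mem_of' hd φ hdeg y hs'
      have hmem : LocalizedModule.mk (a : N) ⟨(s' : B), hsx⟩ ∈
          GrTilde.tildeAt ℬ 𝒩 0 ((veroneseHom hd φ hdeg).base y) :=
        Submodule.subset_span ⟨i', i', a, s', hsx, by simp, rfl⟩
      refine ⟨⟨_, hmem⟩, fun y' hy' => ?_⟩
      obtain rfl : y' = y := hinj hy'
      refine (mLoc_mk hd φ hdeg v _ _ _ _).trans (Eq.trans ?_ (hfrac ⟨y', hW⟩).symm)
      exact LocalizedModule.mk_eq.mpr ⟨1, by simpa [Submonoid.smul_def] using heq.symm⟩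
    choose q hq using hpt
    refine ⟨(⟨q, ?_⟩ : GrTilde.sect ℬ 𝒩 0 (op U)),
      Subtype.ext (funext fun y => Subtype.ext (hq ⟨_, y.2⟩ y.1 rfl))⟩
    intro x
    obtain ⟨y, hy⟩ := hrange x
    obtain ⟨x, hx⟩ := x
    obtain rfl : (veroneseHom hd φ hdeg).base y = x := hy
    obtain ⟨W, hW, iW, i, j, b, s, hs, hn, hfrac⟩ :=
      (t : GrTilde.sect 𝒜 ℳ 0 (op (veroneseHom hd φ hdeg ⁻¹ᵁ U))).2 ⟨y, hx⟩
    obtain ⟨i', a, s', hs', heq⟩ := exists_frac_lift hd φ hdeg v hvdeg y b s (hs ⟨y, hW⟩) hn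
    let W' : (Proj 𝒜).Opens := W ⊓ Proj.basicOpen 𝒜 (φ (s' : B))
    have hW'U : ∀ z : (veroneseHom hd φ hdeg ''ᵁ W' : (Proj ℬ).Opens), z.1 ∈ U := by
      rintro ⟨_, z, hz, rfl⟩
      exact iW.le hz.1
    refine ⟨veroneseHom hd φ hdeg ''ᵁ W', ⟨y, ⟨hW, hs'⟩, rfl⟩, homOfLE fun z hz => hW'U ⟨z, hz⟩,
      i', i', a, s', ?_, Or.inl (by simp), ?_⟩
    · rintro ⟨_, z, hz, rfl⟩
      exact not_mem_of' hd φ hdeg z hz.2
    · rintro ⟨_, z, hz, rfl⟩
      change ((q ⟨(veroneseHom hd φ hdeg).base z, _⟩ : GrTilde.tildeAt ℬ 𝒩 0 _) :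
        GrTilde.LocMod ℬ (M := N) ((veroneseHom hd φ hdeg).base z)) = _
      have hzU : (veroneseHom hd φ hdeg).base z ∈ U := hW'U ⟨_, z, hz, rfl⟩
      refine mLoc_injOn hd φ hdeg v hvdeg hv z (q ⟨_, hzU⟩).2
        (Submodule.subset_span ⟨i', i', a, s', not_mem_of' hd φ hdeg z hz.2, by simp, rfl⟩)
        (Eq.trans (hq ⟨_, hzU⟩ z rfl) ?_)
      refine Eq.trans (hfrac ⟨z, hz.1⟩) (Eq.trans ?_ (mLoc_mk hd φ hdeg v _ _ _ _).symm)
      exact LocalizedModule.mk_eq.mpr ⟨1, by simpa [Submonoid.smul_def] using heq⟩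

include hd hdeg hvdeg in
theorem nonempty_tilde_iso_pullback (hφ : Function.Injective φ) (hv : Function.Injective v)
    (e : Proj 𝒜 ≅ Proj ℬ) (he : e.hom = veroneseHom hd φ hdeg) :
    Nonempty (GrTilde.tilde 𝒜 ℳ 0 ≅ (Scheme.Modules.pullback e.hom).obj (GrTilde.tilde ℬ 𝒩 0)) := by
  rw [he]
  have := veroneseHom_isIso hd φ hdeg hφ
  have h := isIso_adjunct_of_bijective (veroneseHom hd φ hdeg) (mMap hd φ hdeg v hvdeg)
    fun U _ => mMap_app_bijective hd φ hdeg v hvdeg hφ hv U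
  exact ⟨(@asIso _ _ _ _ _ h).symm⟩

end

end Groth.Agent.TildeVer29
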